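import Cfsg.Agent.FusionCamina.Main
import Cfsg.Agent.Fusion.Group

/-!
A finite group whose `2`-elements are all `2`-central has abelian Sylow `2`-subgroups.
-/

set_option autoImplicit false
set_option linter.style.haveILetI false

open Cfsg

namespace CfsgLib.FusionCamina

open scoped Pointwise

variable {G : Type*} [Group G] [Finite G]

theorem group_main (P : Sylow 2 G)
    (h : ∀ x : G, (∃ k : ℕ, orderOf x = 2 ^ k) →
      ∃ Q : Sylow 2 G, (Q : Subgroup G) ≤ Subgroup.centralizer ({x} : Set G)) :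
    ∀ a ∈ (P : Subgroup G), ∀ b ∈ (P : Subgroup G), a * b = b * a := by
  haveI : Fact (Nat.Prime 2) := ⟨Nat.prime_two⟩
  refine main P.isPGroup' (CfsgLib.Fusion.isSaturated_group P) fun x hx => ?_
  have hpo : ∃ k : ℕ, orderOf x = 2 ^ k := by
    obtain ⟨k, hk⟩ := IsPGroup.iff_orderOf.1 P.isPGroup' ⟨x, hx⟩
    exact ⟨k, (Subgroup.orderOf_mk x hx).symm.trans hk⟩
  obtain ⟨Q, hQ⟩ := h x hpo
  have hxN : x ∈ Subgroup.normalizer ((Q : Subgroup G) : Set G) :=
    Subgroup.centralizer_le_normalizer _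
      (Subgroup.mem_centralizer_iff.2 fun q hq => (Subgroup.mem_centralizer_singleton_iff.1 (hQ hq)).symm ▸ rfl)
  have hxQ : x ∈ (Q : Subgroup G) := by
    have hm : x ∈ Subgroup.zpowers x ⊓ Subgroup.normalizer ((Q : Subgroup G) : Set G) :=
      ⟨Subgroup.mem_zpowers x, hxN⟩
    exact ((IsPGroup.inf_normalizer_sylow (P.isPGroup'.to_le (Subgroup.zpowers_le.2 hx)) Q).le hm).2
  obtain ⟨g, hg⟩ := MulAction.exists_smul_eq G Q P
  have hmem : ∀ q ∈ (Q : Subgroup G), g * q * g⁻¹ ∈ (P : Subgroup G) := fun q hq => by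
    rw [← hg, Sylow.coe_subgroup_smul]
    exact ⟨q, hq, rfl⟩
  refine ⟨g * x * g⁻¹, ⟨hmem x hxQ, fun s hs => ?_⟩, ?_⟩
  · rw [← hg, Sylow.coe_subgroup_smul] at hs
    obtain ⟨q, hq, rfl⟩ := hs
    show g * q * g⁻¹ * (g * x * g⁻¹) = g * x * g⁻¹ * (g * q * g⁻¹)
    rw [conj_mul, conj_mul, Subgroup.mem_centralizer_singleton_iff.1 (hQ hq)]
  · refine ⟨conjHom (Subgroup.zpowers x) g, CfsgLib.Fusion.conjHom_mem_group (Subgroup.zpowers_le.2 hx) ?_, rfl⟩
    rw [MonoidHom.map_zpowers]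
    exact Subgroup.zpowers_le.2 (hmem x hxQ)

end CfsgLib.FusionCamina
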