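import Cfsg.Agent.Fusion.Saturated

/-!
A saturated system on a `2`-group in which every element is conjugate to a central one has abelian underlying group.

The argument: a real element has order at most two, so the involutions commute; a square root of an element
centralizing them differs, after moving the square to the centre, from a central element by an involution.
-/

set_option autoImplicit false
set_option linter.style.haveILetI false

open Cfsg

namespace CfsgLib.FusionCamina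

open Cfsg.FusionSystem CfsgLib.Fusion

variable {Ω : Type*} [Group Ω] {S : Subgroup Ω} {F : Cfsg.FusionSystem S}

/-- Central in `S`. -/
def Cen (S : Subgroup Ω) (z : Ω) : Prop := z ∈ S ∧ ∀ s ∈ S, s * z = z * s

lemma range_eq {x y : Ω} {φ : Subgroup.zpowers x →* Ω} (h : φ ⟨x, Subgroup.mem_zpowers x⟩ = y) :
    φ.range = Subgroup.zpowers y := by
  subst h
  ext w
  constructor
  · rintro ⟨⟨_, n, rfl⟩, rfl⟩
    exact ⟨n, (map_zpow φ ⟨x, Subgroup.mem_zpowers x⟩ n).symm.trans (congrArg φ (Subtype.ext rfl))⟩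
  · rintro ⟨n, rfl⟩
    exact ⟨⟨x, Subgroup.mem_zpowers x⟩ ^ n, map_zpow φ _ n⟩

lemma conjElt_of_hom {D : Subgroup Ω} {φ : D →* Ω} (hφ : φ ∈ F.Hom D) {x : Ω} (hx : x ∈ D) :
    F.IsConjElt x (φ ⟨x, hx⟩) :=
  ⟨_, restrict hφ ((Subgroup.zpowers_le).2 hx), rfl⟩

lemma conjElt_zpow {x y : Ω} (h : F.IsConjElt x y) (n : ℤ) : F.IsConjElt (x ^ n) (y ^ n) := by
  obtain ⟨φ, hφ, rfl⟩ := h
  have := conjElt_of_hom hφ (Subgroup.zpow_mem _ (Subgroup.mem_zpowers x) n)
  rw [← map_zpow]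
  exact this

lemma conjElt_pow {x y : Ω} (h : F.IsConjElt x y) (n : ℕ) : F.IsConjElt (x ^ n) (y ^ n) := by
  simpa only [zpow_natCast] using conjElt_zpow h n

lemma conjElt_symm {x y : Ω} (h : F.IsConjElt x y) : F.IsConjElt y x := by
  obtain ⟨φ, hφ, hxy⟩ := h
  obtain ⟨ψ, hψ, -, h1, -⟩ := exists_inv hφ (range_eq hxy)
  refine ⟨ψ, hψ, ?_⟩
  have := h1 ⟨x, Subgroup.mem_zpowers x⟩ (hxy ▸ Subgroup.mem_zpowers y)
  refine Eq.trans (congrArg ψ (Subtype.ext hxy.symm)) this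

lemma conjElt_trans {x y z : Ω} (h₁ : F.IsConjElt x y) (h₂ : F.IsConjElt y z) : F.IsConjElt x z := by
  obtain ⟨φ, hφ, hxy⟩ := h₁
  obtain ⟨ψ, hψ, hyz⟩ := h₂
  have hm : ∀ w : Subgroup.zpowers x, φ w ∈ Subgroup.zpowers y := fun w => range_eq hxy ▸ ⟨w, rfl⟩
  refine ⟨ψ.comp (φ.codRestrict _ hm), F.comp_mem hφ hψ hm, ?_⟩
  refine Eq.trans ?_ hyz
  rw [MonoidHom.comp_apply]
  exact congrArg ψ (Subtype.ext hxy)

variable [Finite S]

lemma exists_ext (hS : IsPGroup 2 S) (hF : F.IsSaturated 2) {x z : Ω} (hxz : F.IsConjElt x z)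
    (hz : Cen S z) :
    ∃ (D : Subgroup Ω) (ψ : D →* Ω), ψ ∈ F.Hom D ∧ (∀ g ∈ S, g * x = x * g → g ∈ D) ∧
      ∀ hx : x ∈ D, ψ ⟨x, hx⟩ = z := by
  obtain ⟨φ, hφ, hxy⟩ := hxz
  have hQS : Subgroup.zpowers z ≤ S := (Subgroup.zpowers_le).2 hz.1
  have hcz : centralizerIn S (Subgroup.zpowers z) = S := by
    refine le_antisymm inf_le_left fun g hg => ⟨hg, Subgroup.mem_centralizer_iff.2 ?_⟩
    rintro _ ⟨n, rfl⟩
    exact ((Commute.zpow_left (show Commute z g from (hz.2 g hg).symm) n)).eq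
  have hfc : F.IsFullyCentralized (Subgroup.zpowers z) :=
    ⟨hQS, fun Q _ => by rw [hcz]; exact Subgroup.card_le_of_le inf_le_left⟩
  obtain ⟨ψ, hψ, hag⟩ := (receptive_of_fullyCentralized hS hF hfc).2 _ φ hφ (range_eq hxy)
  refine ⟨_, ψ, hψ, fun g hg hgx => centralizerIn_le_extender ⟨hg, Subgroup.mem_centralizer_iff.2 ?_⟩,
    fun hx => (hag x (Subgroup.mem_zpowers x) hx).trans hxy⟩
  rintro _ ⟨n, rfl⟩
  exact ((Commute.zpow_left (show Commute x g from hgx.symm) n)).eq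

/-- Conjugate central elements are conjugate by an automorphism in the system. -/
lemma exists_aut (hS : IsPGroup 2 S) (hF : F.IsSaturated 2) {x y : Ω} (hxy : F.IsConjElt x y)
    (hx : Cen S x) (hy : Cen S y) : ∃ α ∈ F.autGroup S, ((α ⟨x, hx.1⟩ : S) : Ω) = y := by
  obtain ⟨D, ψ, hψ, hD, hψx⟩ := exists_ext hS hF hxy hy
  have hSD : S ≤ D := fun g hg => hD g hg (hx.2 g hg)
  have hr : ψ.comp (Subgroup.inclusion hSD) ∈ F.Hom S := restrict hψ hSD
  let f : S →* S := (ψ.comp (Subgroup.inclusion hSD)).codRestrict S (fun w => val_mem hr w)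
  have hf : Function.Bijective f :=
    (Finite.injective_iff_bijective).1 fun a b h => F.injective_of_mem hr (congrArg Subtype.val h :)
  refine ⟨MulEquiv.ofBijective f hf, mem_autGroup_of_eq hr fun w => rfl, hψx (hSD hx.1)⟩

omit [Finite S] in
lemma cen_apply {z : Ω} (hz : Cen S z) (α : MulAut S) : Cen S ((α ⟨z, hz.1⟩ : S) : Ω) := by
  refine ⟨(α ⟨z, hz.1⟩).2, fun s hs => ?_⟩
  obtain ⟨r, hr⟩ := α.surjective ⟨s, hs⟩
  have h : r * ⟨z, hz.1⟩ = ⟨z, hz.1⟩ * r := Subtype.ext (hz.2 r r.2)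
  have h2 := congrArg α h
  rw [map_mul, map_mul, hr] at h2
  exact congrArg Subtype.val h2

/-- Two-power automorphisms in the system fix central elements. -/
lemma fix_of_two_pow (hS : IsPGroup 2 S) (hF : F.IsSaturated 2) {z : Ω} (hz : Cen S z) {β : MulAut S}
    (hβ : β ∈ F.autGroup S) {k : ℕ} (hk : β ^ 2 ^ k = 1) : β ⟨z, hz.1⟩ = ⟨z, hz.1⟩ := by
  haveI : Fact (Nat.Prime 2) := ⟨Nat.prime_two⟩
  have hfn : F.IsFullyNormalized S := by
    refine ⟨le_rfl, fun Q _ => ?_⟩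
    have : normalizerIn S S = S := le_antisymm inf_le_left fun g hg => ⟨hg, Subgroup.le_normalizer hg⟩
    rw [this]
    exact Subgroup.card_le_of_le inf_le_left
  have hfa := fullyAutomized_of_fullyNormalized hS hF hfn
  have hX : IsPGroup 2 (Subgroup.zpowers β) := by
    rintro ⟨_, n, rfl⟩
    refine ⟨k, Subtype.ext ?_⟩
    show ((β : MulAut S) ^ n) ^ 2 ^ k = 1
    rw [← zpow_natCast, ← zpow_mul, mul_comm, zpow_mul, zpow_natCast, hk, one_zpow]
  obtain ⟨χ, -, hχ⟩ := exists_conj_le_autInducedBy 2 hfa _ hX (Subgroup.zpowers_le.2 hβ)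
  obtain ⟨g, hg, hgx⟩ := mem_autInducedBy.1 (hχ β (Subgroup.mem_zpowers β))
  have h1 : (χ * β * χ⁻¹) (χ ⟨z, hz.1⟩) = χ ⟨z, hz.1⟩ := by
    refine Subtype.ext ?_
    rw [hgx, (cen_apply hz χ).2 g hg, mul_inv_cancel_right]
  simp only [MulAut.mul_apply, MulAut.inv_apply_self] at h1
  exact χ.injective h1

/-- Real elements have order at most two. -/
lemma sq_eq_one_of_real (hS : IsPGroup 2 S) (hF : F.IsSaturated 2)
    (h : ∀ x ∈ S, ∃ z, Cen S z ∧ F.IsConjElt x z) {u g : Ω} (hu : u ∈ S) (hg : g ∈ S)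
    (hgu : g * u * g⁻¹ = u⁻¹) : u * u = 1 := by
  obtain ⟨z, hz, huz⟩ := h u hu
  have hc : F.IsConjElt u u⁻¹ := by
    have := conjElt_of_hom (F.conj_mem ((Subgroup.zpowers_le).2 hu) hg) (Subgroup.mem_zpowers u)
    simpa [conjHom, hgu] using this
  have hc2 : F.IsConjElt u⁻¹ z⁻¹ := by simpa using conjElt_zpow huz (-1)
  have hzc : Cen S z⁻¹ := ⟨S.inv_mem hz.1, fun s hs => ((show Commute s z from hz.2 s hs).inv_right).eq⟩
  obtain ⟨α, hα, hαz⟩ :=
    exists_aut hS hF (conjElt_trans (conjElt_symm huz) (conjElt_trans hc hc2)) hz hzc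
  let w : S := ⟨z, hz.1⟩
  have hw : α w = w⁻¹ := Subtype.ext hαz
  haveI : Finite (MulAut S) := finite_mulAut le_rfl
  obtain ⟨a, m, hm, hn⟩ := Nat.exists_eq_two_pow_mul_odd (orderOf_pos α).ne'
  have h2 : (α ^ 2) w = w := by rw [pow_two, MulAut.mul_apply, hw, map_inv, hw, inv_inv]
  have h2j : ∀ j : ℕ, (α ^ (2 * j)) w = w := by
    intro j
    induction j with
    | zero => rfl
    | succ j ih => rw [Nat.mul_succ, pow_add, MulAut.mul_apply, h2, ih]
  obtain ⟨j, rfl⟩ := hm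
  have h3 : (α ^ (2 * j + 1)) w = w := by
    refine fix_of_two_pow hS hF hz (Subgroup.pow_mem _ hα _) (k := a) ?_
    rw [← pow_mul, mul_comm, ← hn, pow_orderOf_eq_one]
  rw [pow_succ, MulAut.mul_apply, hw, map_inv, h2j] at h3
  have hz2 : z * z = 1 := inv_eq_iff_mul_eq_one.1 (congrArg Subtype.val h3)
  obtain ⟨φ, hφ, hφu⟩ := huz
  have he : φ (⟨u, Subgroup.mem_zpowers u⟩ * ⟨u, Subgroup.mem_zpowers u⟩) = φ 1 := by
    rw [map_mul, hφu, hz2, map_one]
  exact congrArg Subtype.val (F.injective_of_mem hφ he)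

theorem main (hS : IsPGroup 2 S) (hF : F.IsSaturated 2)
    (h : ∀ x ∈ S, ∃ z, Cen S z ∧ F.IsConjElt x z) : ∀ a ∈ S, ∀ b ∈ S, a * b = b * a := by
  -- involutions commute
  have hE : ∀ x ∈ S, x * x = 1 → ∀ y ∈ S, y * y = 1 → x * y = y * x := by
    intro x hx hx2 y hy hy2
    have hxi : x⁻¹ = x := inv_eq_of_mul_eq_one_right hx2
    have hyi : y⁻¹ = y := inv_eq_of_mul_eq_one_right hy2
    have := sq_eq_one_of_real hS hF h (u := x * y) (g := x) (S.mul_mem hx hy) hx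
      (by rw [mul_inv_rev, hxi, hyi, ← mul_assoc x x y, hx2, one_mul])
    have h2 := eq_inv_of_mul_eq_one_left this
    rwa [mul_inv_rev, hxi, hyi] at h2
  have key : ∀ {u z : Ω}, F.IsConjElt u z → Cen S z → ∀ {v : Ω}, F.IsConjElt (u ^ 2) v → Cen S v →
      ∃ w, Cen S w ∧ w ^ 2 = v := by
    intro u z huz hz v huv hv
    have hz2 : Cen S (z ^ 2) :=
      ⟨S.pow_mem hz.1 2, fun s hs => ((show Commute s z from hz.2 s hs).pow_right 2).eq⟩
    obtain ⟨α, -, hα⟩ := exists_aut hS hF (conjElt_trans (conjElt_symm (conjElt_pow huz 2)) huv) hz2 hv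
    refine ⟨_, cen_apply hz α, ?_⟩
    rw [← SubmonoidClass.coe_pow, ← map_pow]
    exact hα
  -- involutions are central
  have hcen : ∀ (k : ℕ), ∀ u ∈ S, u ^ 2 ^ k = 1 → ∀ e ∈ S, e * e = 1 → u * e = e * u := by
    intro k
    induction k with
    | zero => intro u _ hu e _ _; rw [pow_zero, pow_one] at hu; rw [hu, one_mul, mul_one]
    | succ k ih =>
      intro u hu hk e he he2
      have hu2 : (u ^ 2) ^ 2 ^ k = 1 := by rwa [← pow_mul, ← pow_succ']
      obtain ⟨v, hv, huv⟩ := h (u ^ 2) (S.pow_mem hu 2)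
      obtain ⟨z, hz, huz⟩ := h u hu
      obtain ⟨D, ψ, hψ, hD, hψv⟩ := exists_ext hS hF huv hv
      have huD : u ∈ D := hD u hu (Commute.self_pow u 2).eq
      have heD : e ∈ D := hD e he (ih _ (S.pow_mem hu 2) hu2 e he he2).symm
      obtain ⟨w, hw, hw2⟩ := key huz hz huv hv
      have hu' : ψ ⟨u, huD⟩ ^ 2 = w ^ 2 := by
        rw [hw2, ← map_pow]
        exact hψv (D.pow_mem huD 2)
      have hcw : Commute (ψ ⟨u, huD⟩) w := hw.2 _ (val_mem hψ _)
      set t := ψ ⟨u, huD⟩ * w⁻¹ with ht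
      have ht2 : t * t = 1 := by rw [← pow_two, ht, hcw.inv_right.mul_pow, hu', inv_pow, mul_inv_cancel]
      have he' : ψ ⟨e, heD⟩ * ψ ⟨e, heD⟩ = 1 := by
        rw [← map_mul, show (⟨e, heD⟩ : D) * ⟨e, heD⟩ = 1 from Subtype.ext he2, map_one]
      have hc : Commute t (ψ ⟨e, heD⟩) :=
        hE t (S.mul_mem (val_mem hψ _) (S.inv_mem hw.1)) ht2 _ (val_mem hψ _) he'
      have hcw' : Commute w (ψ ⟨e, heD⟩) := (hw.2 _ (val_mem hψ _)).symm
      have := hc.mul_left hcw'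
      rw [ht, inv_mul_cancel_right] at this
      have h2 : ψ (⟨u, huD⟩ * ⟨e, heD⟩) = ψ (⟨e, heD⟩ * ⟨u, huD⟩) := by rw [map_mul, map_mul]; exact this.eq
      exact congrArg Subtype.val (F.injective_of_mem hψ h2)
  have hexp : ∀ u ∈ S, ∃ k : ℕ, u ^ 2 ^ k = 1 := fun u hu => by
    obtain ⟨k, hk⟩ := hS ⟨u, hu⟩
    exact ⟨k, congrArg Subtype.val hk⟩
  -- everything is central
  have hall : ∀ (k : ℕ), ∀ u ∈ S, u ^ 2 ^ k = 1 → Cen S u := by
    intro k
    induction k with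
    | zero =>
      intro u hu hu1
      rw [pow_zero, pow_one] at hu1
      exact ⟨hu, fun s _ => by rw [hu1, one_mul, mul_one]⟩
    | succ k ih =>
      intro u hu hk
      have hu2 : Cen S (u ^ 2) := ih _ (S.pow_mem hu 2) (by rwa [← pow_mul, ← pow_succ'])
      obtain ⟨z, hz, huz⟩ := h u hu
      obtain ⟨w, hw, hw2⟩ := key huz hz
        (conjElt_trans (conjElt_pow huz 2) (conjElt_symm (conjElt_pow huz 2))) hu2
      have hcw : Commute u w := hw.2 u hu
      set t := u * w⁻¹ with ht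
      have ht2 : t * t = 1 := by rw [← pow_two, ht, hcw.inv_right.mul_pow, inv_pow, hw2, mul_inv_cancel]
      refine ⟨hu, fun s hs => ?_⟩
      obtain ⟨j, hj⟩ := hexp s hs
      have hc : Commute s t := hcen j s hs hj t (S.mul_mem hu (S.inv_mem hw.1)) ht2
      have := hc.mul_right (show Commute s w from hw.2 s hs)
      rw [ht, inv_mul_cancel_right] at this
      exact this.eq
  intro a ha b hb
  obtain ⟨k, hk⟩ := hexp b hb
  exact (hall k b hb hk).2 a ha

end CfsgLib.FusionCamina
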